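import Mathlib

set_option autoImplicit false

open Finsupp

namespace Groth.Agent.QSymLimLib

/-- quasisymmetry of a series -/
def IsQ (F : MvPowerSeries ℕ ℤ) : Prop :=
  ∀ (ℓ : ℕ) (i j : Fin ℓ → ℕ) (a : Fin ℓ → ℕ), StrictMono i → StrictMono j → (∀ t, 0 < a t) →
        MvPowerSeries.coeff (∑ t : Fin ℓ, Finsupp.single (i t) (a t)) F =
          MvPowerSeries.coeff (∑ t : Fin ℓ, Finsupp.single (j t) (a t)) F

theorem decompose {n : ℕ} (e : Fin n →₀ ℕ) :
    ∃ (ℓ : ℕ) (i : Fin ℓ → Fin n) (a : Fin ℓ → ℕ), StrictMono i ∧ (∀ t, 0 < a t) ∧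
      e = ∑ t : Fin ℓ, Finsupp.single (i t) (a t) := by
  classical
  refine ⟨e.support.card, e.support.orderEmbOfFin rfl, fun t => e (e.support.orderEmbOfFin rfl t),
    (e.support.orderEmbOfFin rfl).strictMono, fun t => ?_, ?_⟩
  · exact Nat.pos_of_ne_zero (Finsupp.mem_support_iff.mp (Finset.orderEmbOfFin_mem _ rfl t))
  · conv_lhs => rw [← Finsupp.sum_single e]
    rw [Finsupp.sum]
    conv_lhs => arg 1; rw [← Finset.map_orderEmbOfFin_univ e.support rfl]
    rw [Finset.sum_map]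
    rfl

theorem mapDomain_sum {α β : Type*} {ℓ : ℕ} (g : α → β) (i : Fin ℓ → α) (a : Fin ℓ → ℕ) :
    Finsupp.mapDomain g (∑ t : Fin ℓ, Finsupp.single (i t) (a t)) = ∑ t : Fin ℓ, Finsupp.single (g (i t)) (a t) := by
  rw [Finsupp.mapDomain_finset_sum]
  simp [Finsupp.mapDomain_single]

theorem compat_of_isQ (F : MvPowerSeries ℕ ℤ) (hF : IsQ F) (n m : ℕ) (φ : Fin n ↪o Fin m) (e : Fin n →₀ ℕ) :
    MvPowerSeries.coeff (Finsupp.mapDomain Fin.val e) F =
      MvPowerSeries.coeff (Finsupp.mapDomain Fin.val (Finsupp.mapDomain φ e)) F := by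
  obtain ⟨ℓ, i, a, hi, ha, rfl⟩ := decompose e
  rw [mapDomain_sum, mapDomain_sum, mapDomain_sum]
  exact hF ℓ _ _ a (Fin.val_strictMono.comp hi) (Fin.val_strictMono.comp (φ.strictMono.comp hi)) ha

/-- bound of the support -/
def bd (e : ℕ →₀ ℕ) : ℕ := e.support.sup (fun x => x + 1)

noncomputable def res (n : ℕ) (e : ℕ →₀ ℕ) : Fin n →₀ ℕ := e.comapDomain Fin.val Fin.val_injective.injOn

theorem map_res (n : ℕ) (e : ℕ →₀ ℕ) (h : bd e ≤ n) : Finsupp.mapDomain Fin.val (res n e) = e := by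
  refine Finsupp.mapDomain_comapDomain _ Fin.val_injective e (fun x hx => ?_)
  have : x + 1 ≤ bd e := Finset.le_sup (f := fun x => x + 1) hx
  exact ⟨⟨x, by omega⟩, rfl⟩

theorem exists_unique_series (d : ℕ) (f : (n : ℕ) → MvPolynomial (Fin n) ℤ) (hf : ∀ n, (f n).IsHomogeneous d)
    (hc : ∀ (n m : ℕ) (φ : Fin n ↪o Fin m) (e : Fin n →₀ ℕ),
        MvPolynomial.coeff e (f n) = MvPolynomial.coeff (Finsupp.mapDomain φ e) (f m)) :
    ∃! F : MvPowerSeries ℕ ℤ, IsQ F ∧ (∀ e : ℕ →₀ ℕ, MvPowerSeries.coeff e F ≠ 0 → e.degree = d) ∧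
      (∀ (n : ℕ) (e : Fin n →₀ ℕ),
          MvPowerSeries.coeff (Finsupp.mapDomain Fin.val e) F = MvPolynomial.coeff e (f n)) := by
  classical
  let F : MvPowerSeries ℕ ℤ := fun e => MvPolynomial.coeff (res (bd e) e) (f (bd e))
  have key : ∀ (n : ℕ) (e : ℕ →₀ ℕ), bd e ≤ n → MvPowerSeries.coeff e F = MvPolynomial.coeff (res n e) (f n) := by
    intro n e hn
    change MvPolynomial.coeff (res (bd e) e) (f (bd e)) = _
    rw [hc (bd e) n (Fin.castLEOrderEmb hn)]
    congr 1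
    apply Finsupp.mapDomain_injective Fin.val_injective
    rw [← Finsupp.mapDomain_comp, map_res n e hn]
    exact map_res (bd e) e le_rfl
  have hval : ∀ (n : ℕ) (e : Fin n →₀ ℕ),
      MvPowerSeries.coeff (Finsupp.mapDomain Fin.val e) F = MvPolynomial.coeff e (f n) := by
    intro n e
    have hb : bd (Finsupp.mapDomain Fin.val e) ≤ n := by
      refine Finset.sup_le fun x hx => ?_
      obtain ⟨y, -, rfl⟩ := Finset.mem_image.mp (Finsupp.mapDomain_support hx)
      exact y.2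
    rw [key n _ hb]
    congr 1
    exact Finsupp.mapDomain_injective Fin.val_injective (map_res n _ hb)
  refine ⟨F, ⟨?_, ?_, hval⟩, ?_⟩
  · intro ℓ i j a hi hj _
    have h1 : ∀ k : Fin ℓ → ℕ, StrictMono k →
        MvPowerSeries.coeff (∑ t : Fin ℓ, Finsupp.single (k t) (a t)) F =
          MvPolynomial.coeff (∑ t : Fin ℓ, Finsupp.single t (a t)) (f ℓ) := by
      intro k hk
      obtain ⟨n, hn⟩ : ∃ n, ∀ t, k t < n := ⟨Finset.univ.sup (fun t => k t + 1), fun t =>
        lt_of_lt_of_le (Nat.lt_succ_self _) (Finset.le_sup (f := fun t => k t + 1) (Finset.mem_univ t))⟩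
      let φ : Fin ℓ ↪o Fin n := OrderEmbedding.ofStrictMono (fun t => ⟨k t, hn t⟩) (fun a b h => hk h)
      rw [hc ℓ n φ, mapDomain_sum, ← hval n, mapDomain_sum]
      rfl
    rw [h1 i hi, h1 j hj]
  · intro e he
    rw [key (bd e) e le_rfl] at he
    have := hf (bd e) he
    rw [Finsupp.degree_eq_weight_one]
    rw [← map_res (bd e) e le_rfl]
    simp only [Finsupp.weight_apply, Pi.one_apply, smul_eq_mul, mul_one] at this ⊢
    rw [Finsupp.sum_mapDomain_index (fun _ => rfl) (fun _ _ _ => rfl)]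
    exact this
  · rintro G ⟨-, -, hG⟩
    refine MvPowerSeries.ext fun e => ?_
    have := hval (bd e) (res (bd e) e)
    rw [← hG (bd e) (res (bd e) e), map_res _ e le_rfl] at this
    exact this.symm

end Groth.Agent.QSymLimLib
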